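import Groth.Agent.L08.LRQuot.Data
import Groth.Agent.L08.WeilInsep.HomogQuot
import Mathlib.RingTheory.Flat.EquationalCriterion
import Mathlib.RingTheory.Finiteness.Descent

/-!
# The quotient by a linearly reductive subgroup is affine
-/

set_option backward.isDefEq.respectTransparency.types false

universe u

open CategoryTheory MonoidalCategory CartesianMonoidalCategory MonObj AlgebraicGeometry
open TensorProduct

noncomputable section

namespace Groth.L08.LRQuot

variable {k : Type u} [Field k]

section Integral

variable {H : Type u} [CommRing H] [HopfAlgebra k H] {α : H →ₗ[k] k}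

theorem integral_left (hα : IsIntegral α) (h : H) :
    TensorProduct.rid k H (α.lTensor H (Coalgebra.comul (R := k) h)) = α h • (1 : H) := by
  have hS : Coalgebra.comul (R := k) (HopfAlgebraStruct.antipode (R := k) h) =
      TensorProduct.map (HopfAlgebraStruct.antipode (R := k)) (HopfAlgebraStruct.antipode (R := k))
        (TensorProduct.comm k H H (Coalgebra.comul (R := k) h)) := comul_antipode k H h
  let β : H →ₗ[k] k := α ∘ₗ HopfAlgebraStruct.antipode (R := k)
  have hβ : ∀ x : H, TensorProduct.rid k H (β.lTensor H (Coalgebra.comul (R := k) x)) = β x • (1 : H) := by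
    intro x
    have h1 := hα.1 (HopfAlgebraStruct.antipode (R := k) x)
    have hSx : Coalgebra.comul (R := k) (HopfAlgebraStruct.antipode (R := k) x) =
        TensorProduct.map (HopfAlgebraStruct.antipode (R := k)) (HopfAlgebraStruct.antipode (R := k))
          (TensorProduct.comm k H H (Coalgebra.comul (R := k) x)) := comul_antipode k H x
    rw [hSx] at h1
    have h2 := congrArg (fun z => HopfAlgebraStruct.antipode (R := k) (TensorProduct.lid k H z)) h1
    simp only [TensorProduct.lid_tmul, map_smul, HopfAlgebra.antipode_one] at h2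
    rw [show β x • (1 : H) = α (HopfAlgebraStruct.antipode (R := k) x) • 1 from rfl, ← h2]
    induction Coalgebra.comul (R := k) x using TensorProduct.induction_on with
    | zero => simp
    | add u v hu hv => simp only [map_add, hu, hv]
    | tmul u v => simp [β, antipode_antipode_apply]
  have hβ1 : β 1 = 1 := by simp [β, hα.2]
  have huniq : ∀ x : H, α x = β x := by
    intro x
    have e1 : ∀ z : H ⊗[k] H, β (TensorProduct.lid k H (α.rTensor H z)) =
        α (TensorProduct.rid k H (β.lTensor H z)) := by
      intro z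
      induction z using TensorProduct.induction_on with
      | zero => simp
      | add u v hu hv => simp only [map_add, hu, hv]
      | tmul u v => simp [mul_comm]
    have h1 := e1 (Coalgebra.comul (R := k) x)
    rw [hα.1, hβ, TensorProduct.lid_tmul, map_smul, map_smul, hβ1, hα.2] at h1
    simpa using h1
  rw [show α = β from LinearMap.ext huniq]
  exact hβ h

/-- the trace form of the integral separates the counit -/
theorem exists_delta (hα : IsIntegral α) (W : Submodule k H) [Module.Finite k W] :
    ∃ E : H, ∀ x ∈ W, α (E * x) = Coalgebra.counit (R := k) x := by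
  classical
  let β : H →ₗ[k] Module.Dual k W := (LinearMap.compl₂ ((LinearMap.mul k H).compr₂ α) W.subtype)
  by_cases hmem : (Coalgebra.counit (R := k) (A := H)) ∘ₗ W.subtype ∈ LinearMap.range β
  · obtain ⟨E, hE⟩ := hmem
    exact ⟨E, fun x hx => LinearMap.congr_fun hE ⟨x, hx⟩⟩
  · exfalso
    obtain ⟨F, hF, hF'⟩ := Submodule.exists_dual_map_eq_bot_of_notMem hmem inferInstance
    obtain ⟨x, rfl⟩ := (Module.evalEquiv k W).surjective F
    have hx : ∀ y : H, α (y * (x : H)) = 0 := fun y => by
      have : Module.evalEquiv k W x (β y) = 0 := by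
        rw [← Submodule.mem_bot (R := k), ← hF']
        exact Submodule.mem_map_of_mem (LinearMap.mem_range_self β y)
      exact this
    refine hF ?_
    show Coalgebra.counit (R := k) (x : H) = 0
    -- `∑ x₁ α(y x₂) = 0`
    have key : ∀ y : H, TensorProduct.rid k H (α.lTensor H (((1 : H) ⊗ₜ[k] y) * Coalgebra.comul (R := k) (x : H))) = 0 := by
      intro y
      let Ψ : H ⊗[k] H →ₗ[k] H := TensorProduct.lift
        (LinearMap.mk₂ k (fun a b => HopfAlgebraStruct.antipode (R := k) a *
          TensorProduct.rid k H (α.lTensor H (Coalgebra.comul (R := k) (b * (x : H)))))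
          (fun a a' b => by simp [add_mul]) (fun c a b => by simp)
          (fun a b b' => by simp [add_mul, mul_add]) (fun c a b => by simp))
      have h0 : ∀ z, Ψ z = 0 := by
        intro z
        induction z using TensorProduct.induction_on with
        | zero => simp
        | add u v hu hv => simp only [map_add, hu, hv, add_zero]
        | tmul a b => simp only [Ψ, TensorProduct.lift.tmul, LinearMap.mk₂_apply, integral_left hα, hx b, zero_smul, mul_zero]
      have h1 := h0 (Coalgebra.comul (R := k) y)
      let Φ : H ⊗[k] (H ⊗[k] H) →ₗ[k] H := TensorProduct.lift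
        (LinearMap.mk₂ k (fun a w => HopfAlgebraStruct.antipode (R := k) a *
          TensorProduct.rid k H (α.lTensor H (w * Coalgebra.comul (R := k) (x : H))))
          (fun a a' b => by simp [add_mul]) (fun c a b => by simp)
          (fun a b b' => by simp [add_mul, mul_add]) (fun c a b => by simp))
      have h2 : ∀ z : H ⊗[k] H, Ψ z = Φ ((Coalgebra.comul (R := k) (A := H)).lTensor H z) := by
        intro z
        induction z using TensorProduct.induction_on with
        | zero => simp
        | add u v hu hv => simp only [map_add, hu, hv]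
        | tmul a b => simp [Ψ, Φ]
      rw [h2, ← Coalgebra.coassoc_apply] at h1
      refine Eq.trans ?_ h1
      let L : H ⊗[k] H →ₗ[k] H := TensorProduct.lift
        (LinearMap.mk₂ k (fun c b => c *
          TensorProduct.rid k H (α.lTensor H (((1 : H) ⊗ₜ[k] b) * Coalgebra.comul (R := k) (x : H))))
          (fun a a' b => by simp [add_mul]) (fun c a b => by simp)
          (fun a b b' => by simp [add_mul, mul_add, TensorProduct.tmul_add]) (fun c a b => by simp))
      have h3 : ∀ z : H ⊗[k] H, Φ (TensorProduct.assoc k H H H ((Coalgebra.comul (R := k) (A := H)).rTensor H z)) =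
          L ((LinearMap.mul' k H ∘ₗ (HopfAlgebraStruct.antipode (R := k)).rTensor H ∘ₗ
            Coalgebra.comul (R := k) (A := H)).rTensor H z) := by
        intro z
        induction z using TensorProduct.induction_on with
        | zero => simp
        | add u v hu hv => simp only [map_add, hu, hv]
        | tmul a b =>
          simp only [LinearMap.rTensor_tmul, LinearMap.comp_apply]
          induction Coalgebra.comul (R := k) a using TensorProduct.induction_on with
          | zero => simp
          | add u v hu hv => simp only [map_add, TensorProduct.add_tmul, hu, hv]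
          | tmul u v =>
            simp only [TensorProduct.assoc_tmul, Φ, L, TensorProduct.lift.tmul, LinearMap.mk₂_apply,
              LinearMap.rTensor_tmul, LinearMap.mul'_apply]
            induction Coalgebra.comul (R := k) (x : H) using TensorProduct.induction_on with
            | zero => simp
            | add p q hp hq => simp only [mul_add, map_add, hp, hq]
            | tmul p q =>
              simp
              congr 1
              ring
      rw [h3]
      rw [show (LinearMap.mul' k H ∘ₗ (HopfAlgebraStruct.antipode (R := k)).rTensor H ∘ₗ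
          Coalgebra.comul (R := k) (A := H)) = Algebra.linearMap k H ∘ₗ Coalgebra.counit from
        HopfAlgebra.mul_antipode_rTensor_comul, LinearMap.rTensor_comp_apply, Coalgebra.rTensor_counit_comul]
      simp [L]
    -- contract with the antipode
    let M : H ⊗[k] H →ₗ[k] k := α ∘ₗ LinearMap.mul' k H ∘ₗ (HopfAlgebraStruct.antipode (R := k)).rTensor H
    have h4 : M (Coalgebra.comul (R := k) (x : H)) = Coalgebra.counit (R := k) (x : H) := by
      simp only [M, LinearMap.comp_apply, HopfAlgebra.mul_antipode_rTensor_comul_apply]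
      rw [Algebra.algebraMap_eq_smul_one, map_smul, hα.2, smul_eq_mul, _root_.mul_one]
    rw [← h4]
    let bH := Module.Free.chooseBasis k H
    let eH := TensorProduct.equivFinsuppOfBasisLeft (R := k) (N := H) bH
    set t := Coalgebra.comul (R := k) (x : H) with ht
    have hz : ∀ i (y : H), α (y * eH t i) = 0 := by
      intro i y
      have e : ∀ z : H ⊗[k] H, α (y * eH z i) =
          bH.repr (TensorProduct.rid k H (α.lTensor H (((1 : H) ⊗ₜ[k] y) * z))) i := by
        intro z
        induction z using TensorProduct.induction_on with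
        | zero => simp
        | add u v hu hv => simp only [map_add, mul_add, Finsupp.add_apply, hu, hv]
        | tmul u v => simp [eH, mul_comm]
      rw [e, key, map_zero, Finsupp.zero_apply]
    rw [← eH.symm_apply_apply t, TensorProduct.equivFinsuppOfBasisLeft_symm_apply, map_finsuppSum]
    refine Finset.sum_eq_zero fun i _ => ?_
    simpa [M] using hz i (HopfAlgebraStruct.antipode (R := k) (bH i))

end Integral

section Galois

variable {G : Type u} [CommRing G] [HopfAlgebra k G] {H : Type u} [CommRing H] [HopfAlgebra k H]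
  (ψ : G →ₐc[k] H) {α : H →ₗ[k] k} (hα : IsIntegral α)

/-- invariant functions -/
def inv : Subalgebra k G := AlgHom.equalizer (rho (ψ : G →ₐ[k] H)) Algebra.TensorProduct.includeLeft

theorem hC (c : inv ψ) : rho (ψ : G →ₐ[k] H) (algebraMap (inv ψ) G c) = algebraMap (inv ψ) G c ⊗ₜ[k] (1 : H) := c.2

/-- integration over the subgroup -/
def proj (α : H →ₗ[k] k) : G →ₗ[k] G :=
  (TensorProduct.rid k G).toLinearMap ∘ₗ α.lTensor G ∘ₗ (rho (ψ : G →ₐ[k] H)).toLinearMap

include hα in
theorem proj_mem (b : G) : proj ψ α b ∈ inv ψ := by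
  show rho (ψ : G →ₐ[k] H) (TensorProduct.rid k G (α.lTensor G (rho (ψ : G →ₐ[k] H) b))) =
    TensorProduct.rid k G (α.lTensor G (rho (ψ : G →ₐ[k] H) b)) ⊗ₜ[k] (1 : H)
  have h1 : ∀ z : G ⊗[k] H, rho (ψ : G →ₐ[k] H) (TensorProduct.rid k G (α.lTensor G z)) =
      ((TensorProduct.rid k H).toLinearMap ∘ₗ α.lTensor H).lTensor G
        (TensorProduct.assoc k G H H ((rho (ψ : G →ₐ[k] H)).toLinearMap.rTensor H z)) := by
    intro z
    induction z using TensorProduct.induction_on with
    | zero => simp
    | add x y hx hy => simp only [map_add, hx, hy]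
    | tmul x y =>
      simp only [LinearMap.lTensor_tmul, TensorProduct.rid_tmul, map_smul, LinearMap.rTensor_tmul,
        AlgHom.toLinearMap_apply]
      induction rho (ψ : G →ₐ[k] H) x using TensorProduct.induction_on with
      | zero => simp
      | add u v hu hv => simp only [map_add, TensorProduct.add_tmul, smul_add, hu, hv]
      | tmul u v => simp [TensorProduct.tmul_smul, TensorProduct.smul_tmul']
  rw [h1, rho_coassoc, ← LinearMap.lTensor_comp_apply,
    show ((TensorProduct.rid k H).toLinearMap ∘ₗ α.lTensor H) ∘ₗ Coalgebra.comul (R := k) (A := H) =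
      (LinearMap.toSpanSingleton k H 1) ∘ₗ α from LinearMap.ext fun h => integral_left hα h]
  induction rho (ψ : G →ₐ[k] H) b using TensorProduct.induction_on with
  | zero => simp
  | add x y hx hy => simp only [map_add, TensorProduct.add_tmul, hx, hy]
  | tmul x y => simp [TensorProduct.smul_tmul']

theorem proj_mul (c : inv ψ) (b : G) : proj ψ α ((c : G) * b) = (c : G) * proj ψ α b := by
  simp only [proj, LinearMap.comp_apply, AlgHom.toLinearMap_apply, map_mul,
    show rho (ψ : G →ₐ[k] H) (c : G) = (c : G) ⊗ₜ[k] (1 : H) from c.2]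
  induction rho (ψ : G →ₐ[k] H) b using TensorProduct.induction_on with
  | zero => simp
  | add x y hx hy => simp only [mul_add, map_add, LinearEquiv.coe_coe] at *; rw [hx, hy]
  | tmul x y => simp

include hα in
theorem proj_one : proj ψ α (1 : G) = 1 := by
  simp [proj, Algebra.TensorProduct.one_def, hα.2]

/-- integration as a map to the invariants -/
def projC : G →ₗ[inv ψ] inv ψ where
  toFun b := ⟨proj ψ α b, proj_mem ψ hα b⟩
  map_add' a b := Subtype.ext (map_add _ a b)
  map_smul' c b := Subtype.ext (proj_mul ψ c b)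

/-- the inverse shear -/
def xi : G ⊗[k] G →ₗ[k] G ⊗[k] H := TensorProduct.lift
  ((LinearMap.mul k (G ⊗[k] H)).compl₁₂
    ((TensorProduct.mk k G H).flip 1 ∘ₗ HopfAlgebraStruct.antipode (R := k)) (rho (ψ : G →ₐ[k] H)).toLinearMap)

theorem xi_comul (g : G) : xi ψ (Coalgebra.comul (R := k) g) = (1 : G) ⊗ₜ[k] ψ g := by
  let Φ : G ⊗[k] (G ⊗[k] G) →ₗ[k] G ⊗[k] H := TensorProduct.lift
    ((LinearMap.mul k (G ⊗[k] H)).compl₁₂
      ((TensorProduct.mk k G H).flip 1 ∘ₗ HopfAlgebraStruct.antipode (R := k)) ((ψ : G →ₐ[k] H).toLinearMap.lTensor G))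
  have e1 : ∀ z : G ⊗[k] G, xi ψ z = Φ ((Coalgebra.comul (R := k) (A := G)).lTensor G z) := by
    intro z
    induction z using TensorProduct.induction_on with
    | zero => simp
    | add x y hx hy => simp only [map_add, hx, hy]
    | tmul x y => simp [xi, Φ, rho_eq]
  have e2 : ∀ z : G ⊗[k] G, Φ (TensorProduct.assoc k G G G ((Coalgebra.comul (R := k) (A := G)).rTensor G z)) =
      TensorProduct.map (LinearMap.mul' k G ∘ₗ (HopfAlgebraStruct.antipode (R := k)).rTensor G ∘ₗ
        Coalgebra.comul (R := k) (A := G)) (ψ : G →ₐ[k] H).toLinearMap z := by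
    intro z
    induction z using TensorProduct.induction_on with
    | zero => simp
    | add x y hx hy => simp only [map_add, hx, hy]
    | tmul x y =>
      simp only [LinearMap.rTensor_tmul, TensorProduct.map_tmul, LinearMap.comp_apply]
      induction Coalgebra.comul (R := k) x using TensorProduct.induction_on with
      | zero => simp
      | add u v hu hv => simp only [map_add, TensorProduct.add_tmul, hu, hv]
      | tmul u v => simp [Φ]
  rw [e1, ← Coalgebra.coassoc_apply, e2,
    show (LinearMap.mul' k G ∘ₗ (HopfAlgebraStruct.antipode (R := k)).rTensor G ∘ₗ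
        Coalgebra.comul (R := k) (A := G)) = Algebra.linearMap k G ∘ₗ Coalgebra.counit from
      HopfAlgebra.mul_antipode_rTensor_comul]
  have e3 : ∀ z : G ⊗[k] G, TensorProduct.map (Algebra.linearMap k G ∘ₗ Coalgebra.counit)
      (ψ : G →ₐ[k] H).toLinearMap z =
      (1 : G) ⊗ₜ[k] ψ (TensorProduct.lid k G ((Coalgebra.counit (R := k) (A := G)).rTensor G z)) := by
    intro z
    induction z using TensorProduct.induction_on with
    | zero => simp
    | add x y hx hy => simp only [map_add, TensorProduct.tmul_add, hx, hy]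
    | tmul x y => simp [Algebra.algebraMap_eq_smul_one, TensorProduct.smul_tmul]
  rw [e3, Coalgebra.rTensor_counit_comul, TensorProduct.lid_tmul, one_smul]

include hα in
/-- dual bases on finite sets -/
theorem exists_dualBasis (hψ : Function.Surjective ψ) {I : Type*} [Fintype I] (b : I → G) :
    ∃ (N : ℕ) (u v : Fin N → G), ∀ i, b i = ∑ j, u j * proj ψ α (v j * b i) := by
  classical
  choose s hs using fun i => TensorProduct.exists_finset (rho (ψ : G →ₐ[k] H) (b i))
  let W : Submodule k H := Submodule.span k ((Finset.univ.biUnion fun i => (s i).image Prod.snd : Finset H) : Set H)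
  haveI : Module.Finite k W := Module.Finite.span_of_finite k (Finset.finite_toSet _)
  obtain ⟨E, hE⟩ := exists_delta hα W
  obtain ⟨g, rfl⟩ := hψ E
  obtain ⟨T, hT⟩ := TensorProduct.exists_finset (Coalgebra.comul (R := k) g)
  let e := T.equivFin.symm
  refine ⟨T.card, fun j => HopfAlgebraStruct.antipode (R := k) (e j).1.1, fun j => (e j).1.2, fun i => ?_⟩
  rw [Equiv.sum_comp e (fun p : T => HopfAlgebraStruct.antipode (R := k) p.1.1 * proj ψ α (p.1.2 * b i)),
    Finset.sum_coe_sort T (fun p => HopfAlgebraStruct.antipode (R := k) p.1 * proj ψ α (p.2 * b i))]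
  have h1 : ∀ p : G × G, HopfAlgebraStruct.antipode (R := k) p.1 * proj ψ α (p.2 * b i) =
      TensorProduct.rid k G (α.lTensor G (xi ψ (p.1 ⊗ₜ p.2) * rho (ψ : G →ₐ[k] H) (b i))) := by
    intro p
    simp only [proj, LinearMap.comp_apply, AlgHom.toLinearMap_apply, map_mul, LinearEquiv.coe_coe, xi,
      TensorProduct.lift.tmul, LinearMap.compl₁₂_apply, LinearMap.mul_apply', LinearMap.flip_apply,
      TensorProduct.mk_apply]
    rw [_root_.mul_assoc]
    induction rho (ψ : G →ₐ[k] H) p.2 * rho (ψ : G →ₐ[k] H) (b i) using TensorProduct.induction_on with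
    | zero => simp
    | add x y hx hy => simp only [map_add, mul_add, hx, hy]
    | tmul x y => simp
  simp only [h1]
  rw [← map_sum, ← map_sum, ← Finset.sum_mul, ← map_sum, ← hT, xi_comul, hs i, Finset.mul_sum, map_sum, map_sum]
  have h2 : ∀ p ∈ s i, TensorProduct.rid k G (α.lTensor G ((1 : G) ⊗ₜ[k] ψ g * p.1 ⊗ₜ[k] p.2)) =
      TensorProduct.rid k G ((Coalgebra.counit (R := k)).lTensor G (p.1 ⊗ₜ[k] p.2)) := by
    intro p hp
    simp only [Algebra.TensorProduct.tmul_mul_tmul, _root_.one_mul, LinearMap.lTensor_tmul, TensorProduct.rid_tmul]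
    rw [hE p.2 (Submodule.subset_span (by
      simp only [Finset.coe_biUnion, Finset.coe_image, Set.mem_iUnion, Finset.mem_coe]
      exact ⟨i, Finset.mem_univ _, p, hp, rfl⟩))]
  rw [Finset.sum_congr rfl h2, ← map_sum, ← map_sum, ← hs i, rho_eq, ← LinearMap.lTensor_comp_apply,
    show (Coalgebra.counit (R := k) (A := H)) ∘ₗ (ψ : G →ₐ[k] H).toLinearMap = Coalgebra.counit from
      LinearMap.ext fun x => CoalgHomClass.counit_comp_apply ψ x, Coalgebra.lTensor_counit_comul]
  simp

include hα in
theorem faithfullyFlat (hψ : Function.Surjective ψ) : Module.FaithfullyFlat (inv ψ) G := by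
  haveI : Module.Flat (inv ψ) G := by
    refine Module.Flat.of_forall_isTrivialRelation fun {l f x} hfx => ?_
    obtain ⟨N, u, v, hb⟩ := exists_dualBasis ψ hα hψ x
    refine ⟨N, fun i j => projC ψ hα (v j * x i), u, fun i => ?_, fun j => ?_⟩
    · exact (hb i).trans (Finset.sum_congr rfl fun j _ => mul_comm _ _)
    · have h := congrArg (projC ψ hα) (congrArg (v j * ·) hfx)
      simp only [Finset.mul_sum, mul_zero, map_zero, map_sum, mul_smul_comm, map_smul] at h
      exact h
  refine ⟨fun m hm htop => hm.ne_top ((Ideal.eq_top_iff_one m).2 ?_)⟩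
  have h1 : (1 : G) ∈ m • (⊤ : Submodule (inv ψ) G) := by rw [htop]; trivial
  have h2 : projC ψ hα (1 : G) ∈ m := by
    refine Submodule.smul_induction_on (p := fun z => projC ψ hα z ∈ m) h1 (fun r hr x _ => ?_) (fun x y hx hy => ?_)
    · rw [map_smul]
      exact m.mul_mem_right _ hr
    · rw [map_add]
      exact add_mem hx hy
  rwa [show projC ψ hα (1 : G) = 1 from Subtype.ext (proj_one ψ hα)] at h2

include hα in
theorem bijective_theta (hψ : Function.Surjective ψ) :
    Function.Bijective (theta ψ (inv ψ) (hC ψ)) := by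
  classical
  constructor
  · rw [injective_iff_map_eq_zero]
    intro z hz
    obtain ⟨s, rfl⟩ := TensorProduct.exists_finset z
    obtain ⟨N, u, v, hb⟩ := exists_dualBasis ψ hα hψ (fun i : s => i.1.2)
    rw [← Finset.sum_coe_sort] at hz ⊢
    have e : ∀ i : s, i.1.1 ⊗ₜ[inv ψ] i.1.2 =
        ∑ j, (i.1.1 * proj ψ α (v j * i.1.2)) ⊗ₜ[inv ψ] u j := by
      intro i
      conv_lhs => rw [hb i]
      rw [TensorProduct.tmul_sum]
      refine Finset.sum_congr rfl fun j _ => ?_
      rw [show u j * proj ψ α (v j * i.1.2) = projC ψ hα (v j * i.1.2) • u j from mul_comm _ _,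
        ← TensorProduct.smul_tmul]
      congr 1
      exact mul_comm _ _
    rw [Finset.sum_congr rfl fun i _ => e i, Finset.sum_comm]
    refine Finset.sum_eq_zero fun j _ => ?_
    rw [← TensorProduct.sum_tmul]
    have h1 : ∑ i : s, i.1.1 * proj ψ α (v j * i.1.2) =
        TensorProduct.rid k G (α.lTensor G (rho (ψ : G →ₐ[k] H) (v j) *
          theta ψ (inv ψ) (hC ψ) (∑ i : s, i.1.1 ⊗ₜ[inv ψ] i.1.2))) := by
      rw [map_sum, Finset.mul_sum, map_sum, map_sum]
      refine Finset.sum_congr rfl fun i _ => ?_
      rw [theta_tmul]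
      simp only [proj, LinearMap.comp_apply, AlgHom.toLinearMap_apply, map_mul, LinearEquiv.coe_coe]
      rw [mul_left_comm (rho (ψ : G →ₐ[k] H) (v j))]
      induction rho (ψ : G →ₐ[k] H) (v j) * rho (ψ : G →ₐ[k] H) i.1.2 using TensorProduct.induction_on with
      | zero => simp
      | add x y hx hy => simp only [map_add, mul_add, hx, hy]
      | tmul x y => simp
    rw [h1, hz]
    simp
  · intro w
    induction w using TensorProduct.induction_on with
    | zero => exact ⟨0, map_zero _⟩
    | add x y hx hy =>
      obtain ⟨a, rfl⟩ := hx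
      obtain ⟨b, rfl⟩ := hy
      exact ⟨a + b, map_add _ _ _⟩
    | tmul x h =>
      obtain ⟨g, rfl⟩ := hψ h
      obtain ⟨T, hT⟩ := TensorProduct.exists_finset (Coalgebra.comul (R := k) g)
      refine ⟨∑ p ∈ T, (x * HopfAlgebraStruct.antipode (R := k) p.1) ⊗ₜ[inv ψ] p.2, ?_⟩
      have e : x ⊗ₜ[k] ψ g = (x ⊗ₜ[k] (1 : H)) * xi ψ (Coalgebra.comul (R := k) g) := by
        rw [xi_comul]; simp
      rw [e, hT, map_sum, map_sum, Finset.mul_sum]
      refine Finset.sum_congr rfl fun p _ => ?_
      simp [theta_tmul, xi, ← _root_.mul_assoc]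

end Galois

section Affine

variable {G : Type u} [CommRing G] [HopfAlgebra k G] [Algebra.FiniteType k G]
  {H : Type u} [CommRing H] [HopfAlgebra k H] [Algebra.FiniteType k H]

/-- the quotient by a linearly reductive subgroup is affine -/
theorem isAffine_quotient (hH : HopfRep.IsLinearlyReductive k H) (ψ : G →ₐc[k] H) (hψ : Function.Surjective ψ)
    {Q : Over (Spec (CommRingCat.of k))} (q : CoactBr.sp k G ⟶ Q)
    (hq : RedSub.IsQuotient (CoactBr.pt (ψ : G →ₐ[k] H)) q) : IsAffine Q.left := by
  obtain ⟨α, hα⟩ := exists_isIntegral hH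
  haveI := faithfullyFlat ψ hα hψ
  have hΘ := bijective_theta ψ hα hψ
  obtain ⟨hqs, hqf, hql, hqsq⟩ := hq
  haveI := hqs; haveI := hqf; haveI := hql
  let eΘ : G ⊗[inv ψ] G ≃ₐ[G] G ⊗[k] H :=
    AlgEquiv.ofBijective
      { (theta ψ (inv ψ) (hC ψ)).toRingHom with
        commutes' := fun g => by
          change theta ψ (inv ψ) (hC ψ) (g ⊗ₜ 1) = g ⊗ₜ[k] (1 : H)
          rw [theta_tmul, map_one, _root_.mul_one] } hΘ
  haveI : Algebra.FinitePresentation k H := Algebra.FinitePresentation.of_finiteType.1 inferInstance
  haveI : Algebra.FinitePresentation G (G ⊗[inv ψ] G) := Algebra.FinitePresentation.equiv eΘ.symm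
  haveI : Algebra.FinitePresentation (inv ψ) G :=
    .of_finitePresentation_tensorProduct_of_faithfullyFlat (R := inv ψ) (S := G) G
  let inl : G →ₐ[k] G ⊗[k] H := Algebra.TensorProduct.includeLeft
  let p : CoactBr.sp k G ⟶ CoactBr.sp k (inv ψ) := CoactBr.pt (inv ψ).val
  have hval : (algebraMap (inv ψ) G).FaithfullyFlat := RingHom.faithfullyFlat_algebraMap_iff.2 inferInstance
  haveI : Surjective p.left := ⟨(RingHom.FaithfullyFlat.iff_flat_and_comap_surjective.1 hval).2⟩
  haveI : Flat p.left := (HasRingHomProperty.Spec_iff (P := @Flat)).2 hval.flat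
  haveI : LocallyOfFinitePresentation p.left :=
    (HasRingHomProperty.Spec_iff (P := @LocallyOfFinitePresentation)).2
      (RingHom.finitePresentation_algebraMap (A := inv ψ) (B := G) |>.2 inferInstance)
  have hpsq : IsPullback (CoactBr.pt inl) (CoactBr.pt (rho (ψ : G →ₐ[k] H))) p p := by
    refine IsPullback.of_map (Over.forget _) ?_ ?_
    · rw [← CoactBr.pt_comp, ← CoactBr.pt_comp]
      congr 1
      exact AlgHom.ext fun c => c.2.symm
    · let e : CommRingCat.of (G ⊗[inv ψ] G) ≅ CommRingCat.of (G ⊗[k] H) :=
        eΘ.toRingEquiv.toCommRingCatIso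
      refine isPullback_SpecMap_of_isPushout
        (CommRingCat.ofHom (algebraMap (inv ψ) G)) (CommRingCat.ofHom (algebraMap (inv ψ) G))
        (CommRingCat.ofHom inl.toRingHom) (CommRingCat.ofHom (rho (ψ : G →ₐ[k] H)).toRingHom) ?_
      refine (CommRingCat.isPushout_tensorProduct (inv ψ) G G).of_iso (Iso.refl _) (Iso.refl _) (Iso.refl _) e
        rfl rfl ?_ ?_
      · ext g
        change theta ψ (inv ψ) (hC ψ) (g ⊗ₜ 1) = g ⊗ₜ[k] (1 : H)
        rw [theta_tmul, map_one, _root_.mul_one]
      · ext g
        change theta ψ (inv ψ) (hC ψ) (1 ⊗ₜ g) = rho (ψ : G →ₐ[k] H) g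
        rw [theta_tmul, ← Algebra.TensorProduct.one_def, _root_.one_mul]
  let e0 := lift (CoactBr.pt inl) (CoactBr.pt (Algebra.TensorProduct.includeRight : H →ₐ[k] G ⊗[k] H))
  haveI : IsIso e0 := isIso_lift_incl G H
  have hqsq' : IsPullback (CoactBr.pt inl) (CoactBr.pt (rho (ψ : G →ₐ[k] H))) q q := by
    have eq1 : e0 ≫ fst _ _ = CoactBr.pt inl := lift_fst _ _
    have eq2 : e0 ≫ (CoactBr.sp k G ◁ CoactBr.pt (ψ : G →ₐ[k] H)) ≫ μ[CoactBr.sp k G] =
        CoactBr.pt (rho (ψ : G →ₐ[k] H)) := shear_eq _
    refine IsPullback.of_iso hqsq (asIso e0).symm (Iso.refl _) (Iso.refl _) (Iso.refl _) ?_ ?_ ?_ ?_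
    · rw [Iso.refl_hom, Category.comp_id, ← eq1, Iso.symm_hom, asIso_inv, IsIso.inv_hom_id_assoc]
    · rw [Iso.refl_hom, Category.comp_id, ← eq2, Iso.symm_hom, asIso_inv, IsIso.inv_hom_id_assoc]
    · simp
    · simp
  obtain ⟨e⟩ := Groth.L08.WeilInsep.exists_iso_of_cov (Groth.L08.WeilInsep.cov_of_fppf q)
    (Groth.L08.WeilInsep.cov_of_fppf p) fun T a b => by
      constructor
      · intro h
        obtain ⟨ξ, h1, h2⟩ := hqsq'.exists_lift a b h
        rw [← h1, ← h2, Category.assoc, Category.assoc, hpsq.w]
      · intro h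
        obtain ⟨ξ, h1, h2⟩ := hpsq.exists_lift a b h
        rw [← h1, ← h2, Category.assoc, Category.assoc, hqsq'.w]
  haveI : IsIso e.hom.left := inferInstanceAs (IsIso ((Over.forget _).map e.hom))
  haveI : IsAffine (CoactBr.sp k (inv ψ)).left := inferInstanceAs (IsAffine (Spec (CommRingCat.of (inv ψ))))
  exact IsAffine.of_isIso e.hom.left

end Affine

end Groth.L08.LRQuot
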