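import Groth.Agent.L08.LinRed
import Groth.Agent.L08.PeterWeyl
import Groth.Prelude.Def_ComodTens
import Mathlib.LinearAlgebra.TensorProduct.Pi
import Mathlib.RingTheory.Flat.Equalizer
import Mathlib.RingTheory.Flat.FaithfullyFlat.Algebra

/-!
# A subgroup with affine quotient of a linearly reductive group is linearly reductive
-/

universe u

open TensorProduct Matrix

noncomputable section

namespace Groth.L08.LRQuot

variable {k : Type u} [Field k] {G : Type u} [CommRing G] [HopfAlgebra k G]
  {H : Type u} [CommRing H] [HopfAlgebra k H]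

/-- the coaction of a subgroup by right translations -/
def rho (ψ : G →ₐ[k] H) : G →ₐ[k] G ⊗[k] H :=
  (Algebra.TensorProduct.lift (Algebra.TensorProduct.includeLeft : G →ₐ[k] G ⊗[k] H)
    ((Algebra.TensorProduct.includeRight : H →ₐ[k] G ⊗[k] H).comp ψ) fun _ _ => .all _ _).comp
      (Bialgebra.comulAlgHom k G)

theorem rho_eq (ψ : G →ₐ[k] H) (g : G) : rho ψ g = ψ.toLinearMap.lTensor G (Coalgebra.comul (R := k) g) := by
  simp only [rho, AlgHom.comp_apply, Bialgebra.comulAlgHom_apply]
  induction Coalgebra.comul (R := k) g using TensorProduct.induction_on with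
  | zero => simp
  | add x y hx hy => simp only [map_add, hx, hy]
  | tmul x y => simp

theorem rho_coassoc (ψ : G →ₐc[k] H) (g : G) :
    TensorProduct.assoc k G H H ((rho (ψ : G →ₐ[k] H)).toLinearMap.rTensor H (rho (ψ : G →ₐ[k] H) g)) =
      (Coalgebra.comul (R := k) (A := H)).lTensor G (rho (ψ : G →ₐ[k] H) g) := by
  let p : G ⊗[k] (G ⊗[k] G) →ₗ[k] G ⊗[k] (H ⊗[k] H) :=
    (TensorProduct.map (ψ : G →ₐ[k] H).toLinearMap (ψ : G →ₐ[k] H).toLinearMap).lTensor G
  rw [rho_eq]
  have h1 : ∀ z : G ⊗[k] G, TensorProduct.assoc k G H H ((rho (ψ : G →ₐ[k] H)).toLinearMap.rTensor H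
      ((ψ : G →ₐ[k] H).toLinearMap.lTensor G z)) =
      p (TensorProduct.assoc k G G G ((Coalgebra.comul (R := k) (A := G)).rTensor G z)) := by
    intro z
    induction z using TensorProduct.induction_on with
    | zero => simp
    | add x y hx hy => simp only [map_add, hx, hy]
    | tmul x y =>
      simp only [LinearMap.lTensor_tmul, LinearMap.rTensor_tmul, AlgHom.toLinearMap_apply, rho_eq]
      induction Coalgebra.comul (R := k) x using TensorProduct.induction_on with
      | zero => simp
      | add u v hu hv => simp only [map_add, add_tmul, hu, hv]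
      | tmul u v => simp [p]
  have h2 : ∀ z : G ⊗[k] G, (Coalgebra.comul (R := k) (A := H)).lTensor G
      ((ψ : G →ₐ[k] H).toLinearMap.lTensor G z) = p ((Coalgebra.comul (R := k) (A := G)).lTensor G z) := by
    intro z
    induction z using TensorProduct.induction_on with
    | zero => simp
    | add x y hx hy => simp only [map_add, hx, hy]
    | tmul x y =>
      simp only [LinearMap.lTensor_tmul, p]
      congr 1
      exact (CoalgHomClass.map_comp_comul_apply ψ y).symm
  rw [h1, h2, Coalgebra.coassoc_apply]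

theorem rho_integral {α : G →ₗ[k] k} (hα : IsIntegral α) (ψ : G →ₐ[k] H) (g : G) :
    TensorProduct.lid k H (α.rTensor H (rho ψ g)) = α g • (1 : H) := by
  have h : ∀ z : G ⊗[k] G, TensorProduct.lid k H (α.rTensor H (ψ.toLinearMap.lTensor G z)) =
      ψ (TensorProduct.lid k G (α.rTensor G z)) := by
    intro z
    induction z using TensorProduct.induction_on with
    | zero => simp
    | add x y hx hy => simp only [map_add, hx, hy]
    | tmul x y => simp
  rw [rho_eq, h, hα.1, TensorProduct.lid_tmul, map_smul, map_one]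

section Galois

variable (ψ : G →ₐc[k] H) (C : Type u) [CommRing C] [Algebra k C] [Algebra C G] [IsScalarTower k C G]
  (hC : ∀ c : C, rho (ψ : G →ₐ[k] H) (algebraMap C G c) = algebraMap C G c ⊗ₜ[k] (1 : H))

/-- the coaction over the quotient -/
def rhoC : G →ₐ[C] G ⊗[k] H := { rho (ψ : G →ₐ[k] H) with commutes' := hC }

/-- the Galois map -/
def theta : G ⊗[C] G →ₐ[C] G ⊗[k] H :=
  Algebra.TensorProduct.lift (IsScalarTower.toAlgHom C G (G ⊗[k] H)) (rhoC ψ C hC) fun _ _ => .all _ _

theorem theta_tmul (a b : G) : theta ψ C hC (a ⊗ₜ b) = (a ⊗ₜ[k] 1) * rho (ψ : G →ₐ[k] H) b := by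
  simp [theta, rhoC]

variable (hΘ : Function.Bijective (theta ψ C hC))

include hΘ in
theorem exists_fixed_vector [Module.FaithfullyFlat C G] {α : G →ₗ[k] k} (hα : IsIntegral α) {d : ℕ}
    (a : Matrix (Fin d) (Fin d) H) (ha : Chevalley.IsComatrix (k := k) a) (P v : Fin d → k)
    (hv : ∑ i, P i * v i = 1)
    (hP : ∀ j, ∑ i, P i • HopfAlgebra.antipodeAlgHom k H (a i j) = algebraMap k H (P j)) :
    ∃ t : Fin d → k, (∀ i, ∑ j, t j • a i j = t i • (1 : H)) ∧ ∑ i, P i * t i = 1 := by
  classical
  let S := HopfAlgebra.antipodeAlgHom k H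
  have hΔS : ∀ i j, Coalgebra.comul (R := k) (S (a i j)) = ∑ l, S (a l j) ⊗ₜ[k] S (a i l) := by
    intro i j
    have h1 := congrFun (congrFun (PeterWeyl.map_comul_sMat (a := a) ha) i) j
    simpa [Matrix.mul_apply, S] using h1
  let e := LinearEquiv.ofBijective (theta ψ C hC).toLinearMap hΘ
  let z : Fin d → G ⊗[C] G := fun i => e.symm ((1 : G) ⊗ₜ[k] ∑ j, v j • S (a i j))
  -- the equations of equivariant vectors
  let D : (Fin d → G) →ₗ[C] Fin d → G ⊗[k] H :=
    LinearMap.pi fun i => (rhoC ψ C hC).toLinearMap ∘ₗ LinearMap.proj i -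
      ∑ j, (LinearMap.mulRight C ((1 : G) ⊗ₜ[k] S (a i j)) ∘ₗ
        (IsScalarTower.toAlgHom C G (G ⊗[k] H)).toLinearMap) ∘ₗ LinearMap.proj j
  have hD : ∀ x i, D x i = rho (ψ : G →ₐ[k] H) (x i) - ∑ j, x j ⊗ₜ[k] S (a i j) := by
    intro x i
    simp [D, rhoC]
  let Z : G ⊗[C] (Fin d → G) := (TensorProduct.piRight C C G _).symm z
  let Θ₂ : G ⊗[C] (G ⊗[k] H) →ₗ[C] (G ⊗[k] H) ⊗[k] H :=
    (TensorProduct.AlgebraTensorModule.congr e (LinearEquiv.refl k H)).toLinearMap ∘ₗ
      (TensorProduct.AlgebraTensorModule.assoc k C C G G H).symm.toLinearMap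
  have hΘ₂ : Function.Injective Θ₂ :=
    (TensorProduct.AlgebraTensorModule.congr e (LinearEquiv.refl k H)).injective.comp
      (TensorProduct.AlgebraTensorModule.assoc k C C G G H).symm.injective
  have hequiv : ∀ w : G ⊗[C] G, Θ₂ ((rhoC ψ C hC).toLinearMap.lTensor G w) =
      (TensorProduct.assoc k G H H).symm ((Coalgebra.comul (R := k) (A := H)).lTensor G (e w)) := by
    intro w
    induction w using TensorProduct.induction_on with
    | zero => simp
    | add x y hx hy => simp only [map_add, hx, hy]
    | tmul g g' =>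
      have h1 : (Coalgebra.comul (R := k) (A := H)).lTensor G (e (g ⊗ₜ[C] g')) =
          (g ⊗ₜ[k] (1 : H ⊗[k] H)) * (Coalgebra.comul (R := k) (A := H)).lTensor G (rho (ψ : G →ₐ[k] H) g') := by
        rw [show e (g ⊗ₜ[C] g') = theta ψ C hC (g ⊗ₜ g') from rfl, theta_tmul]
        induction rho (ψ : G →ₐ[k] H) g' using TensorProduct.induction_on with
        | zero => simp
        | add x y hx hy => simp only [mul_add, map_add, hx, hy]
        | tmul x y => simp
      rw [h1, ← rho_coassoc, LinearMap.lTensor_tmul]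
      change Θ₂ (g ⊗ₜ[C] rho (ψ : G →ₐ[k] H) g') = _
      induction rho (ψ : G →ₐ[k] H) g' using TensorProduct.induction_on with
      | zero => simp
      | add x y hx hy => simp only [tmul_add, map_add, mul_add, hx, hy]
      | tmul x y =>
        have e1 : Θ₂ (g ⊗ₜ[C] (x ⊗ₜ[k] y)) = theta ψ C hC (g ⊗ₜ x) ⊗ₜ[k] y := by
          simp [Θ₂, e]
          all_goals rfl
        rw [e1, theta_tmul, LinearMap.rTensor_tmul, AlgHom.toLinearMap_apply]
        induction rho (ψ : G →ₐ[k] H) x using TensorProduct.induction_on with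
        | zero => simp
        | add u v hu hv => simp only [mul_add, map_add, add_tmul, hu, hv]
        | tmul u v => simp [Algebra.TensorProduct.one_def]
  have hZ : D.lTensor G Z = 0 := by
    apply (TensorProduct.piRight C C G (fun _ => G ⊗[k] H)).injective
    funext i
    rw [map_zero, Pi.zero_apply]
    have h1 : ∀ Y : G ⊗[C] (Fin d → G),
        TensorProduct.piRight C C G (fun _ => G ⊗[k] H) (D.lTensor G Y) i =
          (rhoC ψ C hC).toLinearMap.lTensor G (TensorProduct.piRight C C G _ Y i) -
            ∑ j, (LinearMap.mulRight C ((1 : G) ⊗ₜ[k] S (a i j)) ∘ₗ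
              (IsScalarTower.toAlgHom C G (G ⊗[k] H)).toLinearMap).lTensor G
                (TensorProduct.piRight C C G _ Y j) := by
      intro Y
      induction Y using TensorProduct.induction_on with
      | zero => simp
      | add x y hx hy =>
        simp only [map_add, Pi.add_apply, hx, hy, Finset.sum_add_distrib]
        abel
      | tmul g x => simp [D, tmul_sub, tmul_sum]
    rw [h1, show TensorProduct.piRight C C G _ Z = z from LinearEquiv.apply_symm_apply _ _]
    apply hΘ₂
    have h2 : ∀ (w : G ⊗[C] G) (s : H), Θ₂ ((LinearMap.mulRight C ((1 : G) ⊗ₜ[k] s) ∘ₗ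
        (IsScalarTower.toAlgHom C G (G ⊗[k] H)).toLinearMap).lTensor G w) = e w ⊗ₜ[k] s := by
      intro w s
      induction w using TensorProduct.induction_on with
      | zero => simp
      | add x y hx hy => simp only [map_add, add_tmul, hx, hy]
      | tmul g g' =>
        simp [Θ₂, Algebra.TensorProduct.algebraMap_apply]
    rw [map_sub, map_sum, map_zero, hequiv, sub_eq_zero]
    simp only [h2]
    simp only [z, LinearEquiv.apply_symm_apply, LinearMap.lTensor_tmul, map_sum, map_smul, hΔS,
      TensorProduct.tmul_sum, TensorProduct.tmul_smul, TensorProduct.assoc_symm_tmul, Finset.smul_sum,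
      TensorProduct.sum_tmul, TensorProduct.smul_tmul', TensorProduct.tmul_smul]
    exact Finset.sum_comm
  -- descend
  let F := LinearMap.ker D
  let L : F →ₗ[C] G :=
    (∑ i, algebraMap k C (P i) • (LinearMap.proj i : (Fin d → G) →ₗ[C] G)) ∘ₗ F.subtype
  obtain ⟨Y, hY⟩ : Z ∈ LinearMap.range (AlgebraTensorModule.lTensor C G F.subtype) := by
    rw [← Module.Flat.ker_lTensor_eq]
    exact hZ
  have hLY : L.lTensor G Y = (1 : G) ⊗ₜ[C] (1 : G) := by
    let L' : (Fin d → G) →ₗ[C] G :=
      ∑ i, algebraMap k C (P i) • (LinearMap.proj i : (Fin d → G) →ₗ[C] G)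
    have h1 : L.lTensor G Y = L'.lTensor G Z := by
      rw [← hY, show L = L' ∘ₗ F.subtype from rfl, LinearMap.lTensor_comp_apply]
      rfl
    have h2 : ∀ Y : G ⊗[C] (Fin d → G),
        L'.lTensor G Y = ∑ i, algebraMap k C (P i) • TensorProduct.piRight C C G _ Y i := by
      intro Y
      induction Y using TensorProduct.induction_on with
      | zero => simp
      | add x y hx hy => simp only [map_add, Pi.add_apply, smul_add, Finset.sum_add_distrib, hx, hy]
      | tmul g x => simp [L', tmul_sum]
    rw [h1, h2, show TensorProduct.piRight C C G _ Z = z from LinearEquiv.apply_symm_apply _ _]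
    apply e.injective
    simp only [z, map_sum, map_smul, LinearEquiv.apply_symm_apply]
    simp only [algebraMap_smul]
    rw [show e ((1 : G) ⊗ₜ[C] (1 : G)) = theta ψ C hC (1 ⊗ₜ 1) from rfl, theta_tmul, map_one, mul_one]
    simp only [Finset.smul_sum, smul_smul, ← TensorProduct.tmul_smul]
    rw [← TensorProduct.tmul_sum]
    congr 1
    rw [Finset.sum_comm]
    calc ∑ j, ∑ i, (P i * v j) • S (a i j)
        = ∑ j, v j • ∑ i, P i • S (a i j) := by
          simp only [Finset.smul_sum, smul_smul, mul_comm (P _)]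
      _ = algebraMap k H (∑ i, P i * v i) := by
          simp only [show ∀ j, ∑ i, P i • S (a i j) = algebraMap k H (P j) from hP, map_sum, map_mul]
          simp only [Algebra.smul_def, mul_comm]
      _ = 1 := by rw [hv, map_one]
  obtain ⟨x, hx⟩ : (1 : G) ∈ LinearMap.range L := by
    rw [← Submodule.Quotient.mk_eq_zero (LinearMap.range L)]
    apply Module.FaithfullyFlat.tensorProduct_mk_injective (A := C) (B := G) (G ⧸ LinearMap.range L)
    show (1 : G) ⊗ₜ[C] (LinearMap.range L).mkQ 1 = (1 : G) ⊗ₜ[C] 0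
    rw [tmul_zero, ← LinearMap.lTensor_tmul, ← hLY, ← LinearMap.lTensor_comp_apply]
    rw [show (LinearMap.range L).mkQ ∘ₗ L = 0 from LinearMap.ext fun y =>
      (Submodule.Quotient.mk_eq_zero _).2 (LinearMap.mem_range_self L y)]
    simp
  let t : Fin d → k := fun i => α (x.1 i)
  have ht : ∀ i, ∑ j, t j • S (a i j) = t i • (1 : H) := by
    intro i
    have h1 := congrFun (x.2 : D x.1 = 0) i
    rw [hD, Pi.zero_apply, sub_eq_zero] at h1
    have h2 := congrArg (fun w => TensorProduct.lid k H (α.rTensor H w)) h1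
    simp only [rho_integral hα, map_sum, LinearMap.rTensor_tmul, TensorProduct.lid_tmul] at h2
    exact h2.symm
  have ht' : ∀ i, ∑ j, t j • a i j = t i • (1 : H) := by
    intro i
    have h1 := congrArg S (ht i)
    simpa [map_sum, S, antipode_antipode_apply] using h1
  refine ⟨t, ht', ?_⟩
  rw [← hα.2, ← hx]
  simp only [L, LinearMap.comp_apply, LinearMap.sum_apply, LinearMap.smul_apply, LinearMap.proj_apply,
    Submodule.subtype_apply, map_sum, algebraMap_smul, map_smul, t, smul_eq_mul]

theorem lid_rTensor_eq {d : ℕ} (f : (Fin d → k) →ₗ[k] k) (z : (Fin d → k) ⊗[k] H) :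
    TensorProduct.lid k H (f.rTensor H z) =
      ∑ i, f (Pi.single i 1) • TensorProduct.lid k H (LinearMap.rTensor H (LinearMap.proj i) z) := by
  induction z using TensorProduct.induction_on with
  | zero => simp
  | add x y hx hy => simp only [map_add, smul_add, Finset.sum_add_distrib, hx, hy]
  | tmul x y =>
    simp only [LinearMap.rTensor_tmul, TensorProduct.lid_tmul, LinearMap.proj_apply, smul_smul, ← Finset.sum_smul]
    congr 1
    conv_lhs => rw [pi_eq_sum_univ' x]
    simp [map_sum, mul_comm]

include hΘ in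
/-- the subgroup of a linearly reductive group with affine quotient is linearly reductive -/
theorem isLinearlyReductive [Module.FaithfullyFlat C G] (hG : HopfRep.IsLinearlyReductive k G) :
    HopfRep.IsLinearlyReductive k H := by
  classical
  obtain ⟨α, hα⟩ := exists_isIntegral hG
  refine isLinearlyReductive_of_lift fun V _ _ cV _ π hπ hπfix => ?_
  haveI : Module.Free k V := Module.Free.of_divisionRing k V
  let b := Module.finBasis k V
  let e := b.equivFun
  let c := ComodTens.Comod.ofEquiv e cV
  let π' : (Fin (Module.finrank k V) → k) →ₗ[k] k := π ∘ₗ e.symm.toLinearMap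
  have hπ' : ∀ x, TensorProduct.lid k H (π'.rTensor H (c.coact x)) = π' x • (1 : H) := by
    intro x
    have h1 := congrArg (TensorProduct.lid k H) (hπfix (e.symm x))
    rw [TensorProduct.lid_tmul] at h1
    refine Eq.trans ?_ h1
    show TensorProduct.lid k H (π'.rTensor H ((e : V →ₗ[k] _).rTensor H (cV.coact (e.symm x)))) = _
    rw [← LinearMap.rTensor_comp_apply]
    congr 3
    exact LinearMap.ext fun y => congrArg π (e.symm_apply_apply y)
  let P : Fin (Module.finrank k V) → k := fun i => π' (Pi.single i 1)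
  obtain ⟨v, hv⟩ := hπ 1
  obtain ⟨t, ht, htP⟩ := exists_fixed_vector ψ C hC hΘ hα (CharFinite.matOf c) (CharFinite.isComatrix_matOf c) P (e v)
    (by
      have h1 : π' (e v) = 1 := by simp [π', hv]
      rw [← h1]
      conv_rhs => rw [pi_eq_sum_univ' (e v)]
      simp [P, map_sum, mul_comm])
    (fun j => by
      have h1 := congrArg (HopfAlgebra.antipodeAlgHom k H)
        ((lid_rTensor_eq π' (c.coact (Pi.single j 1))).symm.trans (hπ' (Pi.single j 1)))
      simp only [map_sum, map_smul, map_one] at h1
      rw [Algebra.algebraMap_eq_smul_one]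
      exact h1)
  refine ⟨e.symm t, ?_, ?_⟩
  · show cV.coact (e.symm t) = e.symm t ⊗ₜ[k] (1 : H)
    apply (TensorProduct.congr e (LinearEquiv.refl k H)).injective
    show c.coact t = _
    refine PeterWeyl.ext_proj fun i => ?_
    rw [PeterWeyl.coact_apply_proj, ht i]
    simp
  · show π' t ≠ 0
    have h1 : π' t = ∑ i, P i * t i := by
      conv_lhs => rw [pi_eq_sum_univ' t]
      simp [P, map_sum, mul_comm]
    rw [h1, htP]
    exact one_ne_zero

end Galois

end Groth.L08.LRQuot
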