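import Groth.Agent.L08.LRQuot.Algebra
import Groth.Agent.L08.FinFlat.Inertia
import Groth.Prelude.Def_CoactBr
import Groth.Prelude.Def_RedSub
import Mathlib.Algebra.Category.Ring.Constructions
import Mathlib.AlgebraicGeometry.Morphisms.Flat
import Mathlib.RingTheory.RingHom.FaithfullyFlat

/-!
# Ring-theoretic data of an affine quotient
-/

set_option backward.isDefEq.respectTransparency.types false

universe u

open CategoryTheory MonoidalCategory CartesianMonoidalCategory MonObj AlgebraicGeometry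
open TensorProduct

noncomputable section

namespace Groth.L08.LRQuot

variable {k : Type u} [Field k]

local instance braidedAlgSpecOf (R : Type u) [CommRing R] : (algSpec (CommRingCat.of R)).Braided :=
  braidedAlgSpec

theorem exists_pt_eq {A C : Type u} [CommRing A] [Algebra k A] [CommRing C] [Algebra k C]
    (f : CoactBr.sp k A ⟶ CoactBr.sp k C) : ∃ φ : C →ₐ[k] A, f = CoactBr.pt φ := by
  let g : Spec (CommRingCat.of A) ⟶ Spec (CommRingCat.of C) := f.left
  have hg : g ≫ Spec.map (CommRingCat.ofHom (algebraMap k C)) = Spec.map (CommRingCat.ofHom (algebraMap k A)) :=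
    Over.w f
  obtain ⟨φ, hφ⟩ := Spec.map_surjective g
  rw [← hφ, ← Spec.map_comp] at hg
  have e := congrArg CommRingCat.Hom.hom (Spec.map_injective hg)
  refine ⟨{ φ.hom with commutes' := fun r => RingHom.congr_fun e r }, ?_⟩
  ext1
  exact hφ.symm

/-- the shear map in coordinates -/
theorem shear_eq {A B : Type u} [CommRing A] [HopfAlgebra k A] [CommRing B] [HopfAlgebra k B] (ψ : A →ₐ[k] B) :
    lift (CoactBr.pt (Algebra.TensorProduct.includeLeft : A →ₐ[k] A ⊗[k] B))
        (CoactBr.pt (Algebra.TensorProduct.includeRight : B →ₐ[k] A ⊗[k] B)) ≫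
      (CoactBr.sp k A ◁ CoactBr.pt ψ) ≫ μ[CoactBr.sp k A] = CoactBr.pt (rho ψ) := by
  rw [← Category.assoc, lift_whiskerLeft, ← Hom.mul_def, ← CoactBr.pt_comp, CoactBr.pt_mul_pt]
  rfl

theorem isIso_lift_incl (A B : Type u) [CommRing A] [Algebra k A] [CommRing B] [Algebra k B] :
    IsIso (lift (CoactBr.pt (Algebra.TensorProduct.includeLeft : A →ₐ[k] A ⊗[k] B))
      (CoactBr.pt (Algebra.TensorProduct.includeRight : B →ₐ[k] A ⊗[k] B))) := by
  have e := CoactBr.lift_pt_pt (Algebra.TensorProduct.includeLeft : A →ₐ[k] A ⊗[k] B)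
    (Algebra.TensorProduct.includeRight : B →ₐ[k] A ⊗[k] B)
  have e2 : (Algebra.TensorProduct.lift (Algebra.TensorProduct.includeLeft : A →ₐ[k] A ⊗[k] B)
      (Algebra.TensorProduct.includeRight : B →ₐ[k] A ⊗[k] B) fun _ _ => .all _ _) = AlgHom.id k _ :=
    Algebra.TensorProduct.ext' fun a b => by simp
  rw [e2, CoactBr.pt_id] at e
  haveI h1 : IsIso (Functor.Monoidal.μIso (algSpec (CommRingCat.of k)) (Opposite.op (CommAlgCat.of k A))
      (Opposite.op (CommAlgCat.of k B))).hom := inferInstance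
  refine @IsIso.of_isIso_fac_right _ _ _ _ _ _ _ _ h1 (IsIso.id _) e

theorem bijective_theta_of_isPullback {A B C : Type u} [CommRing A] [HopfAlgebra k A] [CommRing B] [HopfAlgebra k B]
    [CommRing C] [Algebra k C] [Algebra C A] [IsScalarTower k C A] (ψ : A →ₐc[k] B)
    (hC : ∀ c : C, rho (ψ : A →ₐ[k] B) (algebraMap C A c) = algebraMap C A c ⊗ₜ[k] (1 : B))
    (hsq : IsPullback (Spec.map (CommRingCat.ofHom (Algebra.TensorProduct.includeLeft : A →ₐ[k] A ⊗[k] B).toRingHom))
      (Spec.map (CommRingCat.ofHom (rho (ψ : A →ₐ[k] B)).toRingHom))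
      (Spec.map (CommRingCat.ofHom (algebraMap C A))) (Spec.map (CommRingCat.ofHom (algebraMap C A)))) :
    Function.Bijective (theta ψ C hC) := by
  have h : IsPushout (CommRingCat.ofHom (algebraMap C A)) (CommRingCat.ofHom (algebraMap C A))
      (CommRingCat.ofHom (Algebra.TensorProduct.includeLeft : A →ₐ[k] A ⊗[k] B).toRingHom)
      (CommRingCat.ofHom (rho (ψ : A →ₐ[k] B)).toRingHom) :=
    (IsPullback.of_map Scheme.Spec (by
      exact Quiver.Hom.unop_inj (CommRingCat.hom_ext (RingHom.ext fun c => (hC c).symm))) hsq).unop.flip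
  let e := (CommRingCat.isPushout_tensorProduct C A A).isoIsPushout _ _ h
  have he : (e.hom.hom : A ⊗[C] A → A ⊗[k] B) = theta ψ C hC := by
    funext z
    induction z using TensorProduct.induction_on with
    | zero => simp
    | add x y hx hy => simp only [map_add]; rw [hx, hy]
    | tmul a b =>
      rw [theta_tmul, show a ⊗ₜ[C] b = (a ⊗ₜ[C] (1 : A)) * ((1 : A) ⊗ₜ[C] b) by simp, map_mul]
      congr 1
      · exact congrArg (fun f : CommRingCat.of A ⟶ CommRingCat.of (A ⊗[k] B) => f.hom a)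
          (IsPushout.inl_isoIsPushout_hom _ _ (CommRingCat.isPushout_tensorProduct C A A) h)
      · exact congrArg (fun f : CommRingCat.of A ⟶ CommRingCat.of (A ⊗[k] B) => f.hom b)
          (IsPushout.inr_isoIsPushout_hom _ _ (CommRingCat.isPushout_tensorProduct C A A) h)
  rw [← he]
  exact e.commRingCatIsoToRingEquiv.bijective

/-- an affine quotient gives a faithfully flat Galois extension -/
theorem exists_data {A B : Type u} [CommRing A] [HopfAlgebra k A] [CommRing B] [HopfAlgebra k B]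
    (ψ : A →ₐc[k] B) {Q : Over (Spec (CommRingCat.of k))} [IsAffine Q.left] (q : CoactBr.sp k A ⟶ Q)
    (hq : RedSub.IsQuotient (CoactBr.pt (ψ : A →ₐ[k] B)) q) :
    ∃ (C : Type u) (_ : CommRing C) (_ : Algebra k C) (_ : Algebra C A) (_ : IsScalarTower k C A)
      (hC : ∀ c : C, rho (ψ : A →ₐ[k] B) (algebraMap C A c) = algebraMap C A c ⊗ₜ[k] (1 : B)),
      Module.FaithfullyFlat C A ∧ Function.Bijective (theta ψ C hC) := by
  obtain ⟨hsurj, hflat, -, hsq⟩ := hq
  letI aC : Algebra k Γ(Q.left, ⊤) := ((Scheme.ΓSpecIso (CommRingCat.of k)).inv ≫ Q.hom.appTop).hom.toAlgebra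
  let e := Groth.L08.FinFlat.toSp k Q
  haveI : IsIso e.left := inferInstanceAs (IsIso Q.left.toSpecΓ)
  haveI : IsIso e := by
    haveI : IsIso ((Over.forget _).map e) := inferInstanceAs (IsIso e.left)
    exact isIso_of_reflects_iso e (Over.forget _)
  obtain ⟨io, hio⟩ := exists_pt_eq (q ≫ e)
  letI : Algebra Γ(Q.left, ⊤) A := io.toRingHom.toAlgebra
  haveI : IsScalarTower k Γ(Q.left, ⊤) A := IsScalarTower.of_algebraMap_eq fun r => (io.commutes r).symm
  let inl : A →ₐ[k] A ⊗[k] B := Algebra.TensorProduct.includeLeft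
  let e0 := lift (CoactBr.pt inl) (CoactBr.pt (Algebra.TensorProduct.includeRight : B →ₐ[k] A ⊗[k] B))
  haveI : IsIso e0 := isIso_lift_incl A B
  have hsq' : IsPullback (CoactBr.pt inl) (CoactBr.pt (rho (ψ : A →ₐ[k] B))) (CoactBr.pt io) (CoactBr.pt io) := by
    have eq1 : e0 ≫ fst _ _ = CoactBr.pt inl := lift_fst _ _
    have eq2 : e0 ≫ (CoactBr.sp k A ◁ CoactBr.pt (ψ : A →ₐ[k] B)) ≫ μ[CoactBr.sp k A] =
        CoactBr.pt (rho (ψ : A →ₐ[k] B)) := shear_eq _
    refine IsPullback.of_iso hsq (asIso e0).symm (Iso.refl _) (Iso.refl _) (asIso e) ?_ ?_ ?_ ?_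
    · rw [Iso.refl_hom, Category.comp_id, ← eq1, Iso.symm_hom, asIso_inv, IsIso.inv_hom_id_assoc]
    · rw [Iso.refl_hom, Category.comp_id, ← eq2, Iso.symm_hom, asIso_inv, IsIso.inv_hom_id_assoc]
    · rw [Iso.refl_hom, Category.id_comp, asIso_hom, hio]
    · rw [Iso.refl_hom, Category.id_comp, asIso_hom, hio]
  have hC : ∀ c : Γ(Q.left, ⊤), rho (ψ : A →ₐ[k] B) (algebraMap Γ(Q.left, ⊤) A c) =
      algebraMap Γ(Q.left, ⊤) A c ⊗ₜ[k] (1 : B) := fun c => by
    have h1 : inl.comp io = (rho (ψ : A →ₐ[k] B)).comp io := CoactBr.pt_injective (by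
      rw [CoactBr.pt_comp, CoactBr.pt_comp]; exact hsq'.w)
    exact (AlgHom.congr_fun h1 c).symm
  refine ⟨Γ(Q.left, ⊤), inferInstance, inferInstance, inferInstance, inferInstance, hC, ?_,
    bijective_theta_of_isPullback ψ hC (hsq'.map (Over.forget _))⟩
  have hf : Flat (CoactBr.pt io).left := by
    rw [← hio]; exact inferInstanceAs (Flat (q.left ≫ e.left))
  have hs : Surjective (CoactBr.pt io).left := by
    rw [← hio]; exact inferInstanceAs (Surjective (q.left ≫ e.left))
  have h1 : io.toRingHom.Flat := (HasRingHomProperty.Spec_iff (P := @Flat)).1 hf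
  exact RingHom.faithfullyFlat_algebraMap_iff.1
    (RingHom.FaithfullyFlat.iff_flat_and_comap_surjective.2 ⟨h1, hs.1⟩)

end Groth.L08.LRQuot
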